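import Cfsg.Agent.Lib.Constrained.Basic
import Cfsg.Agent.Lib.Cores.Basic
import Cfsg.Agent.EqLemmas

/-!
In a `p`-constrained group a `p`-element centralising `O_p` and `O_{p'}` lies in `O_p`.

* `centralizer_cores_le`, `mem_pCore_of_centralizes`
-/

set_option autoImplicit false

namespace Cfsg.Agent.EarlyChar

open Subgroup

variable {X : Type*} [Group X] [Finite X] {p : ℕ} [hp : Fact p.Prime]

/-- A `p`-element of `O_{p',p}` centralising `O_{p'}` lies in `O_p`. -/
theorem mem_pCore_of_mem_pPrimePCore {x : X} (hxK : x ∈ Cfsg.pPrimePCore p X)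
    (hxC : x ∈ centralizer (Cfsg.pPrimeCore p X : Set X)) {k : ℕ} (hx : x ^ p ^ k = 1) :
    x ∈ Cfsg.pCore p X := by
  set O := Cfsg.pPrimeCore p X
  haveI hOn : O.Normal := Cores.pPrimeCore_normal p X
  haveI hKn : (Cfsg.pPrimePCore p X).Normal := (Cores.pCore_normal p (X ⧸ O)).comap _
  set N := Cfsg.pPrimePCore p X ⊓ centralizer (O : Set X)
  haveI hNn : N.Normal := Subgroup.normal_inf_normal _ _
  obtain ⟨P⟩ := (inferInstance : Nonempty (Sylow p ↥N))
  set Z := O.subgroupOf N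
  haveI : Z.Normal := hOn.subgroupOf N
  have hZ : ∀ z ∈ Z, ∀ c : N, c * z = z * c := fun z hz c =>
    Subtype.ext ((mem_centralizer_iff.1 c.2.2 (z : X) hz).symm)
  have hidx : ∃ n, Z.index = p ^ n := by
    obtain ⟨n, hn⟩ := IsPGroup.iff_card.mp ((Cores.isPGroup_pCore p (X ⧸ O)).to_le
      (show N.map (QuotientGroup.mk' O) ≤ Cfsg.pCore p (X ⧸ O) from
        (Subgroup.map_mono inf_le_left).trans (Subgroup.map_comap_le _ _)))
    refine ⟨n, ?_⟩
    rw [← hn, ← Subgroup.relIndex_ker, QuotientGroup.ker_mk']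
    rfl
  have hsup : Z ⊔ (P : Subgroup ↥N) = ⊤ := by
    obtain ⟨n, hn⟩ := hidx
    obtain ⟨j, -, hj⟩ := (Nat.dvd_prime_pow hp.out).1
      (hn ▸ Subgroup.index_dvd_of_le (le_sup_left : Z ≤ Z ⊔ (P : Subgroup ↥N)))
    rcases j with _ | j
    · rwa [pow_zero, Subgroup.index_eq_one] at hj
    · exact absurd ((dvd_pow_self p j.succ_ne_zero).trans
        (hj ▸ Subgroup.index_dvd_of_le (le_sup_right : (P : Subgroup ↥N) ≤ _))) P.not_dvd_index
  have hPn : (P : Subgroup ↥N).Normal := by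
    rw [← Subgroup.normalizer_eq_top_iff, eq_top_iff, ← hsup]
    refine sup_le (fun z hz => Coprime.mem_normalizer_of_forall fun u hu => ?_) Subgroup.le_normalizer
    rwa [← hZ z hz u, mul_inv_cancel_right]
  haveI := hPn
  haveI := P.unique_of_normal hPn
  haveI : (P : Subgroup ↥N).Characteristic := P.characteristic_of_normal hPn
  have hPX : ((P : Subgroup ↥N).map N.subtype).Normal := Cores.map_subtype_normal_of_characteristic N _
  refine Cores.le_pCore hPX (P.isPGroup'.map _) ⟨⟨x, hxK, hxC⟩, ?_, rfl⟩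
  have hzp : IsPGroup p ↥(Subgroup.zpowers (⟨x, hxK, hxC⟩ : ↥N)) := by
    rintro ⟨y, i, rfl⟩
    refine ⟨k, Subtype.ext (Subtype.ext ?_)⟩
    simp only [SubmonoidClass.coe_pow, Subgroup.coe_zpow, OneMemClass.coe_one]
    rw [← zpow_natCast, ← zpow_mul, mul_comm, zpow_mul, zpow_natCast, hx, one_zpow]
  obtain ⟨P', hP'⟩ := hzp.exists_le_sylow
  rw [Subsingleton.elim P P']
  exact hP' (Subgroup.mem_zpowers _)

/-- In a `p`-constrained group a `p`-element centralising `O_p` and `O_{p'}` lies in `O_p`. -/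
theorem mem_pCore_of_centralizes (h : Cfsg.IsPConstrained p X) {x : X}
    (hxR : x ∈ centralizer (Cfsg.pCore p X : Set X))
    (hxO : x ∈ centralizer (Cfsg.pPrimeCore p X : Set X)) {k : ℕ} (hx : x ^ p ^ k = 1) :
    x ∈ Cfsg.pCore p X := by
  set O := Cfsg.pPrimeCore p X with hO
  set R := Cfsg.pCore p X
  haveI hOn : O.Normal := Cores.pPrimeCore_normal p X
  haveI hRn : R.Normal := Cores.pCore_normal p X
  set q := QuotientGroup.mk' O with hq
  set C := centralizer (R : Set X) ⊓ centralizer (O : Set X)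
  haveI hCn : C.Normal := Subgroup.normal_inf_normal _ _
  suffices hC : C.map q ≤ Cfsg.pCore p (X ⧸ O) from
    mem_pCore_of_mem_pPrimePCore (hC ⟨x, ⟨hxR, hxO⟩, rfl⟩) hxO hx
  refine Cores.le_pCore (hCn.map q (QuotientGroup.mk'_surjective O)) ?_
  rintro ⟨_, c, hc, rfl⟩
  obtain ⟨m, hm⟩ := Components.exists_pow_coprime (p := p) c
  refine ⟨m, Subtype.ext ?_⟩
  simp only [SubmonoidClass.coe_pow, OneMemClass.coe_one, ← map_pow]
  set d := c ^ p ^ m
  have hdC : d ∈ C := pow_mem hc _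
  have hd : q d ∈ centralizer (Cfsg.pCore p (X ⧸ O) : Set (X ⧸ O)) := by
    refine mem_centralizer_iff.2 fun yb hy => ?_
    obtain ⟨y, rfl⟩ := QuotientGroup.mk'_surjective O yb
    have hyK : y ∈ Cfsg.pPrimePCore p X := hy
    haveI hKn : (Cfsg.pPrimePCore p X).Normal := (Cores.pCore_normal p (X ⧸ O)).comap _
    set w := d * y * d⁻¹ * y⁻¹ with hw
    have hwK : w ∈ Cfsg.pPrimePCore p X := mul_mem (hKn.conj_mem y hyK d) (inv_mem hyK)
    have hwC : w ∈ centralizer (O : Set X) := by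
      rw [hw, show d * y * d⁻¹ * y⁻¹ = d * (y * d⁻¹ * y⁻¹) by group]
      exact mul_mem hdC.2 ((inferInstance : (centralizer (O : Set X)).Normal).conj_mem _ (inv_mem hdC.2) y)
    obtain ⟨i, hi⟩ := Components.exists_pow_coprime (p := p) w
    have hwiO : w ^ p ^ i ∈ O := by
      rw [← QuotientGroup.eq_one_iff]
      obtain ⟨j, hj⟩ := Cores.isPGroup_pCore p (X ⧸ O) ⟨q w, hwK⟩
      have hj' : q w ^ p ^ j = 1 := congrArg Subtype.val hj
      show q (w ^ p ^ i) = 1
      refine orderOf_eq_one_iff.mp (Nat.eq_one_of_dvd_coprimes (hi.pow_right j)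
        (orderOf_map_dvd q _) (orderOf_dvd_of_pow_eq_one ?_))
      rw [map_pow, ← pow_mul, mul_comm, pow_mul, hj', one_pow]
    -- split `w` into its `p`-part and `p'`-part
    obtain ⟨a, b, hab⟩ : ∃ a b : ℤ, a * (p ^ i : ℕ) + b * orderOf (w ^ p ^ i) = 1 := by
      have := (hi.symm.pow_left i)
      exact (Int.isCoprime_iff_nat_coprime.2 (by simpa using this) : IsCoprime ((p ^ i : ℕ) : ℤ) (orderOf (w ^ p ^ i) : ℤ))
    set r := w ^ (b * orderOf (w ^ p ^ i)) with hr
    set o := w ^ (a * (p ^ i : ℕ)) with ho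
    have hwro : w = o * r := by rw [ho, hr, ← zpow_add, hab, zpow_one]
    have hoO : o ∈ O := by
      rw [ho, mul_comm, zpow_mul, zpow_natCast]
      exact zpow_mem hwiO a
    have hrp : r ^ p ^ i = 1 := by
      rw [hr, ← zpow_natCast (w ^ (b * (orderOf (w ^ p ^ i) : ℤ))) (p ^ i), ← zpow_mul,
        show b * (orderOf (w ^ p ^ i) : ℤ) * ((p ^ i : ℕ) : ℤ) = ((p ^ i * orderOf (w ^ p ^ i) : ℕ) : ℤ) * b by
          push_cast; ring,
        zpow_mul, zpow_natCast, pow_mul, pow_orderOf_eq_one, one_zpow]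
    have hrR : r ∈ R := mem_pCore_of_mem_pPrimePCore (zpow_mem hwK _) (zpow_mem hwC _) hrp
    have hrd : Commute d r := (mem_centralizer_iff.1 hdC.1 r hrR).symm
    have hod : Commute d o := (mem_centralizer_iff.1 hdC.2 o hoO).symm
    have hit : ∀ n : ℕ, d ^ n * y * (d ^ n)⁻¹ = w ^ n * y := by
      intro n
      induction n with
      | zero => simp
      | succ n ih =>
        have hwd : Commute d w := by rw [hwro]; exact hod.mul_right hrd
        calc d ^ (n + 1) * y * (d ^ (n + 1))⁻¹ = d * (d ^ n * y * (d ^ n)⁻¹) * d⁻¹ := by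
              rw [pow_succ']; group
          _ = (d * w ^ n) * (y * d⁻¹) := by rw [ih]; group
          _ = w ^ n * (d * y * d⁻¹) := by rw [(hwd.pow_right n).eq]; group
          _ = w ^ (n + 1) * y := by rw [pow_succ, hw]; group
    have h1 : w ^ orderOf d = 1 := by simpa [pow_orderOf_eq_one] using (hit (orderOf d)).symm
    have h2 : r ^ orderOf d = 1 := by
      rw [hr, ← zpow_natCast (w ^ (_ : ℤ)), ← zpow_mul, mul_comm, zpow_mul, zpow_natCast, h1, one_zpow]
    have hr1 : r = 1 := orderOf_eq_one_iff.mp (Nat.eq_one_of_dvd_coprimes (hm.pow_right i)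
      (orderOf_dvd_of_pow_eq_one h2) (orderOf_dvd_of_pow_eq_one hrp))
    have h3 : q w = 1 := (QuotientGroup.eq_one_iff w).2 (by rw [hwro, hr1, mul_one]; exact hoO)
    rw [hw, map_mul, map_mul, map_mul, map_inv, map_inv, mul_inv_eq_one, mul_inv_eq_iff_eq_mul] at h3
    exact h3.symm
  obtain ⟨j, hj⟩ := Cores.isPGroup_pCore p (X ⧸ O) ⟨q d, (Constrained.isPConstrained_iff.1 h) hd⟩
  exact orderOf_eq_one_iff.mp (Nat.eq_one_of_dvd_coprimes (hm.pow_right j)
    (orderOf_map_dvd q _) (orderOf_dvd_of_pow_eq_one (congrArg Subtype.val hj)))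

end Cfsg.Agent.EarlyChar
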