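import Cfsg.Agent.Lib.EarlyChar.Constrained
import Cfsg.Agent.Lib.StrongAlperin.Main
import Cfsg.Agent.Lib.ZStar.Unique
import Cfsg.Agent.Lib.ZStar.Apply
import Cfsg.Agent.Lib.ZStar.KleinSimple
import Cfsg.Agent.Lib.Involution.Basic
import Cfsg.Prelude.Def_CaseTheorems
import Cfsg.Agent.EqLemmas

/-!
Groups of characteristic 2 type in the early sense: some maximal 2-local subgroup has a noncyclic centre of `O₂`.

* `exists_maximal`, `eq_of_central_involutions`, `link_fixes`, `exists_noncyclic`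
-/

set_option autoImplicit false

universe u

namespace Cfsg.Agent.EarlyChar

open Subgroup AlperinFamily

variable {G : Type u} [Group G] [Finite G]

/-- `O₂` of a subgroup, seen in the ambient group. -/
abbrev core2 (M : Subgroup G) : Subgroup G := (Cfsg.pCore 2 ↥M).map M.subtype

theorem exists_maximal {N : Subgroup G} (h : Cfsg.IsTwoLocal N) :
    ∃ M : Subgroup G, Cfsg.IsMaximalTwoLocal M ∧ N ≤ M := by
  obtain ⟨M, hle, hmax⟩ := (Set.toFinite {M : Subgroup G | Cfsg.IsTwoLocal M}).exists_le_maximal (a := N) h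
  exact ⟨M, ⟨hmax.1, fun K hK hMK => le_antisymm (hmax.2 hK hMK) hMK⟩, hle⟩

omit [Finite G] in
theorem mem_normalizer_zpowers {u g : G} (h : Commute g u) : g ∈ normalizer (zpowers u : Set G) := by
  apply centralizer_le_normalizer
  rw [zpowers_eq_closure, centralizer_closure, mem_centralizer_singleton_iff]
  exact h.eq

omit [Finite G] in
theorem isTwoLocal_zpowers {u : G} (hu : orderOf u = 2) :
    Cfsg.IsTwoLocal (normalizer (zpowers u : Set G)) :=
  ⟨_, IsPGroup.of_card (n := 1) (by rw [Nat.card_zpowers, hu, pow_one]),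
    fun h => Involution.ne_one hu (zpowers_eq_bot.mp h), rfl⟩

omit [Finite G] in
theorem conj_mem_core {M : Subgroup G} {m r : G} (hm : m ∈ M) (hr : r ∈ core2 M) : m * r * m⁻¹ ∈ core2 M := by
  obtain ⟨r, hr, rfl⟩ := hr
  exact ⟨_, (Cores.pCore_normal 2 ↥M).conj_mem r hr ⟨m, hm⟩, rfl⟩

/-- There is only one involution in a cyclic centre. -/
theorem eq_of_central_involutions {M : Subgroup G} (hc : IsCyclic ↥(center ↥(Cfsg.pCore 2 ↥M))) {x y : G}
    (hx : x ∈ core2 M) (hxc : ∀ r ∈ core2 M, r * x = x * r) (hxo : orderOf x = 2)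
    (hy : y ∈ core2 M) (hyc : ∀ r ∈ core2 M, r * y = y * r) (hyo : orderOf y = 2) : x = y := by
  obtain ⟨x', hx', rfl⟩ := hx
  obtain ⟨y', hy', rfl⟩ := hy
  obtain ⟨c, hc⟩ := hc
  have key : ∀ (z : ↥M) (hz : z ∈ Cfsg.pCore 2 ↥M), (∀ r ∈ core2 M, r * (z : G) = (z : G) * r) →
      (z : G) ∈ zpowers (((c : ↥(Cfsg.pCore 2 ↥M)) : ↥M) : G) := by
    intro z hz hcom
    have hzc : (⟨z, hz⟩ : ↥(Cfsg.pCore 2 ↥M)) ∈ center ↥(Cfsg.pCore 2 ↥M) :=
      mem_center_iff.mpr fun r => Subtype.ext (Subtype.ext (hcom _ ⟨r, r.2, rfl⟩))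
    obtain ⟨k, hk⟩ := hc ⟨⟨z, hz⟩, hzc⟩
    refine ⟨k, ?_⟩
    have := congrArg (fun v : ↥(center ↥(Cfsg.pCore 2 ↥M)) => (((v : ↥(Cfsg.pCore 2 ↥M)) : ↥M) : G)) hk
    simpa using this
  exact KleinSimple.eq_of_orderOf_two (isOfFinOrder_of_finite _) (key x' hx' hxc) (key y' hy' hyc) hxo hyo

variable (S : Sylow 2 G)
  (hinv : ∀ X : Subgroup G, Odd (Nat.card ↥X) → (S : Subgroup G) ≤ normalizer (X : Set G) → X = ⊥)
  (hcon : ∀ T : Subgroup G, IsPGroup 2 ↥T → T ≠ ⊥ → Cfsg.IsPConstrained 2 ↥(normalizer (T : Set G)))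
  (hcyc : ∀ M : Subgroup G, Cfsg.IsMaximalTwoLocal M → IsCyclic ↥(center ↥(Cfsg.pCore 2 ↥M)))

include hinv hcon in
/-- A 2-local subgroup containing `S` has characteristic 2. -/
theorem isCharP_of_sylow_le {M : Subgroup G} (hM : Cfsg.IsTwoLocal M) (hSM : (S : Subgroup G) ≤ M) :
    Constrained.IsCharP 2 ↥M := by
  obtain ⟨T, hT, hT1, rfl⟩ := hM
  refine Constrained.isCharP_iff.mpr ⟨hcon T hT hT1, ?_⟩
  have hn := Cores.pPrimeCore_normal 2 ↥(normalizer (T : Set G))
  have h := hinv ((Cfsg.pPrimeCore 2 ↥(normalizer (T : Set G))).map (normalizer (T : Set G)).subtype) ?_ ?_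
  · exact (map_eq_bot_iff_of_injective _ (Subgroup.subtype_injective _)).mp h
  · rw [Cores.card_map_subtype]
    exact Nat.coprime_two_right.mp (Cores.coprime_card_pPrimeCore 2)
  · intro s hs
    refine Coprime.mem_normalizer_of_forall fun v hv => ?_
    obtain ⟨w, hw, rfl⟩ := hv
    exact ⟨_, hn.conj_mem w hw ⟨s, hSM hs⟩, rfl⟩

include hinv hcon in
/-- A central involution of `S` lies in the centre of `O₂` of any 2-local subgroup containing `S`. -/
theorem mem_center_core {M : Subgroup G} (hM : Cfsg.IsTwoLocal M) (hSM : (S : Subgroup G) ≤ M) {z : G}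
    (hzS : z ∈ (S : Subgroup G)) (hzc : ∀ s ∈ (S : Subgroup G), s * z = z * s) :
    z ∈ core2 M ∧ ∀ r ∈ core2 M, r * z = z * r := by
  have hRS : core2 M ≤ (S : Subgroup G) := by
    rintro _ ⟨r, hr, rfl⟩
    exact Cores.pCore_le_sylow (S.subtype hSM) hr
  refine ⟨⟨⟨z, hSM hzS⟩, ?_, rfl⟩, fun r hr => hzc r (hRS hr)⟩
  exact isCharP_of_sylow_le S hinv hcon hM hSM
    (mem_centralizer_iff.mpr fun r hr => Subtype.ext (hzc r (hRS ⟨r, hr, rfl⟩)))

include hinv hcon hcyc in
/-- The key step: the normaliser of a link fixes the central involution of `S`. -/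
theorem link_fixes {z : G} (hz : orderOf z = 2) (hzS : z ∈ (S : Subgroup G))
    (hzc : ∀ s ∈ (S : Subgroup G), s * z = z * s) {H : Subgroup G}
    (hH : StrongAlperin.Good 2 (S : Subgroup G) H) :
    z ∈ H ∧ ∀ x ∈ normalizer (H : Set G), x * z * x⁻¹ = z := by
  haveI : Fact (Nat.Prime 2) := ⟨Nat.prime_two⟩
  obtain ⟨hHS, hfn, hcen, hpc, -⟩ := hH
  have hzH : z ∈ H := hcen ⟨hzS, mem_centralizer_iff.mpr fun h hh => hzc h (hHS hh)⟩
  refine ⟨hzH, ?_⟩
  have hH1 : H ≠ ⊥ := fun h => Involution.ne_one hz (mem_bot.mp (h ▸ hzH))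
  have hHp : IsPGroup 2 ↥H := S.isPGroup'.to_le hHS
  set L := normalizer (H : Set G) with hL
  obtain ⟨M, hM, hLM⟩ := exists_maximal (N := L) ⟨H, hHp, hH1, rfl⟩
  obtain ⟨⟨U, hU, hU1, hMU⟩, hmax⟩ := id hM
  have hHL : H ≤ L := le_normalizer
  have hHM : H ≤ M := hHL.trans hLM
  set R := core2 M with hR
  have hRp : IsPGroup 2 ↥R := (Cores.isPGroup_pCore 2 ↥M).map _
  -- `R ≤ H`
  set X := R ⊓ L with hX
  have hXn : ∀ a ∈ L, ∀ b ∈ X, a * b * a⁻¹ ∈ X := fun a ha b hb =>
    ⟨conj_mem_core (hLM ha) hb.1, L.mul_mem (L.mul_mem ha hb.2) (L.inv_mem ha)⟩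
  have hXH : X ≤ H := by
    have hsyl := isSylowIn_of_fn S.isPGroup' hfn
    obtain ⟨P, hP⟩ := (Fusion.isSylowIn_iff_exists hsyl.le).1 hsyl
    have hn : (X.subgroupOf L).Normal := ⟨fun b hb a => hXn a a.2 b hb⟩
    have hp : IsPGroup 2 ↥(X.subgroupOf L) :=
      (Fusion.isPGroup_subgroupOf inf_le_right).2 (hRp.to_le inf_le_left)
    intro x hx
    have h1 : (⟨x, hx.2⟩ : ↥L) ∈ ((S : Subgroup G) ⊓ L).subgroupOf L := by
      rw [← hP]
      exact Cores.pCore_le_sylow P (Cores.le_pCore hn hp hx)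
    have h2 : x ∈ H ⊔ centralizer (H : Set G) := by
      rw [← hpc]
      refine ⟨⟨x, hx.2⟩, ?_, rfl⟩
      show _ ∈ Cfsg.pCore 2 (↥L ⧸ Cfsg.pPrimeCore 2 ↥L)
      exact Cores.map_pCore_le _ (QuotientGroup.mk'_surjective _) 2 ⟨_, Cores.le_pCore hn hp hx, rfl⟩
    rw [← SetLike.mem_coe,
      Subgroup.coe_mul_of_right_le_normalizer_left H (centralizer (H : Set G)) (centralizer_le_normalizer _)] at h2
    obtain ⟨h, hh, c, hc, rfl⟩ := Set.mem_mul.mp h2
    refine mul_mem hh (hcen ⟨?_, hc⟩)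
    have h3 : h * c ∈ (S : Subgroup G) := h1.1
    have := (S : Subgroup G).mul_mem ((S : Subgroup G).inv_mem (hHS hh)) h3
    rwa [inv_mul_cancel_left] at this
  have hRH : R ≤ H := by
    by_contra hne
    have hHR : H ≤ normalizer (R : Set G) := fun h hh =>
      Coprime.mem_normalizer_of_forall fun r hr => conj_mem_core (hHM hh) hr
    have hlt : H < R ⊔ H := lt_of_le_of_ne le_sup_right fun h => hne (h ▸ le_sup_left)
    have hgr := exists_lt_inf_normalizer (p := 2) (hRp.to_sup_of_normal_left' hHp hHR) hlt.le hlt.ne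
    obtain ⟨y, hy, hyH⟩ := SetLike.exists_of_lt hgr
    have hy1 : y ∈ R ⊔ H := hy.1
    rw [← SetLike.mem_coe, Subgroup.coe_mul_of_right_le_normalizer_left R H hHR] at hy1
    obtain ⟨r, hr, h, hh, rfl⟩ := Set.mem_mul.mp hy1
    refine hyH (mul_mem (hXH ⟨hr, ?_⟩) hh)
    have h3 : r * h ∈ L := hy.2
    have := L.mul_mem h3 (L.inv_mem (hHL hh))
    rwa [mul_inv_cancel_right] at this
  -- the involution `u` of `Z(R)`
  have hR1 : R ≠ ⊥ := by
    intro h
    apply hU1
    rw [eq_bot_iff, ← h]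
    intro v hv
    have hvM : v ∈ M := hMU ▸ le_normalizer hv
    exact ⟨⟨v, hvM⟩, Cores.le_pCore (Cores.subgroupOf_normal_of_le_normalizer hMU.le) hU.comap_subtype hv, rfl⟩
  haveI : Nontrivial ↥R := (nontrivial_iff_ne_bot R).mpr hR1
  haveI := hRp.center_nontrivial
  obtain ⟨u', hu'Z, -, hu'o⟩ := PGroup.exists_central_order_p hRp (N := center ↥R)
    ((nontrivial_iff_ne_bot _).mp inferInstance)
  set u : G := (u' : G) with hu
  have huo : orderOf u = 2 := by rw [hu, Subgroup.orderOf_coe, hu'o]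
  have huR : u ∈ R := u'.2
  have huc : ∀ r ∈ R, r * u = u * r := fun r hr =>
    congrArg Subtype.val (mem_center_iff.mp hu'Z ⟨r, hr⟩)
  have hMC : ∀ m ∈ M, Commute m u := fun m hm => by
    have hcz : ∀ r ∈ R, r * (m * u * m⁻¹) = (m * u * m⁻¹) * r := fun r hr => by
      have := huc _ (conj_mem_core (inv_mem hm) hr)
      rw [inv_inv] at this
      calc r * (m * u * m⁻¹) = m * ((m⁻¹ * r * m) * u) * m⁻¹ := by group
        _ = m * (u * (m⁻¹ * r * m)) * m⁻¹ := by rw [this]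
        _ = m * u * m⁻¹ * r := by group
    have := eq_of_central_involutions (hcyc M hM) (conj_mem_core hm huR) hcz
      ((Involution.orderOf_conj m u).trans huo) huR huc huo
    exact mul_inv_eq_iff_eq_mul.mp this
  have hMN : normalizer (zpowers u : Set G) = M :=
    hmax _ (isTwoLocal_zpowers huo) fun m hm => mem_normalizer_zpowers (hMC m hm)
  have huS : u ∈ (S : Subgroup G) := hHS (hRH huR)
  -- the local subgroup at `z`
  obtain ⟨M₀, hM₀, hzM₀⟩ := exists_maximal (isTwoLocal_zpowers hz)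
  have hCz : ∀ g, Commute g z → g ∈ M₀ := fun g hg => hzM₀ (mem_normalizer_zpowers hg)
  have hSM₀ : (S : Subgroup G) ≤ M₀ := fun s hs => hCz s (hzc s hs)
  have hM₀p := isCharP_of_sylow_le S hinv hcon hM₀.1 hSM₀
  -- `O ⊓ M₀ = 1`
  set O := (Cfsg.pPrimeCore 2 ↥M).map M.subtype with hO
  have hOM : O ≤ M := map_subtype_le _
  have hOn : ∀ m ∈ M, ∀ o ∈ O, m * o * m⁻¹ ∈ O := by
    rintro m hm _ ⟨o, ho, rfl⟩
    exact ⟨_, (Cores.pPrimeCore_normal 2 ↥M).conj_mem o ho ⟨m, hm⟩, rfl⟩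
  have hOodd : Odd (Nat.card ↥O) := by
    rw [hO, Cores.card_map_subtype]
    exact Nat.coprime_two_right.mp (Cores.coprime_card_pPrimeCore 2)
  have hOM₀ : ∀ o ∈ O, o ∈ M₀ → o = 1 := by
    set u₀ : ↥M₀ := ⟨u, hSM₀ huS⟩ with hu₀
    set D := centralizer ({u₀} : Set ↥M₀) with hD
    have hu0p : IsPGroup 2 ↥(zpowers u₀) := IsPGroup.of_card (n := 1) (by
      rw [Nat.card_zpowers, hu₀, Subgroup.orderOf_mk, huo, pow_one])
    have hcl : centralizer (zpowers u₀ : Set ↥M₀) = D := by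
      rw [zpowers_eq_closure, centralizer_closure]
    have hDp : Constrained.IsCharP 2 ↥D := by
      refine hM₀p.of_le hu0p (hcl ▸ centralizer_le_normalizer _) (Or.inr hcl.ge) ?_
      exact inf_le_right.trans hcl.le
    intro o ho hoM₀
    have hoD : (⟨o, hoM₀⟩ : ↥M₀) ∈ D :=
      mem_centralizer_singleton_iff.mpr (Subtype.ext (hMC o (hOM ho)).eq)
    set Y := (O.subgroupOf M₀).subgroupOf D
    have hYn : Y.Normal := ⟨fun v hv d => by
      have hdM : ((d : ↥M₀) : G) ∈ M := hMN ▸ mem_normalizer_zpowers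
        (show Commute ((d : ↥M₀) : G) u from congrArg Subtype.val (mem_centralizer_singleton_iff.mp d.2))
      exact hOn _ hdM _ hv⟩
    have hYc : (Nat.card ↥Y).Coprime 2 := by
      refine Nat.coprime_two_right.mpr (hOodd.of_dvd_nat ?_)
      rw [← Cores.card_map_subtype, ← Cores.card_map_subtype]
      refine card_dvd_of_le ?_
      rintro _ ⟨_, ⟨v, hv, rfl⟩, rfl⟩
      exact hv
    have hmem : (⟨⟨o, hoM₀⟩, hoD⟩ : ↥D) ∈ Y := ho
    have := Cores.le_pPrimeCore hYn hYc hmem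
    rw [hDp.pPrimeCore_eq_bot, mem_bot] at this
    exact congrArg (fun v : ↥D => ((v : ↥M₀) : G)) this
  have hfix : ∀ o ∈ O, Commute o z → o = 1 := fun o ho h => hOM₀ o ho (hCz o h)
  have hinvert : ∀ w ∈ M, w * w = 1 → (∀ o ∈ O, Commute o w → o = 1) → ∀ o ∈ O, w * o * w⁻¹ = o⁻¹ := by
    intro w hwM hw2 hwfix o ho
    let φ : ↥O →* ↥O :=
      { toFun := fun y => ⟨w * y * w⁻¹, hOn w hwM y y.2⟩
        map_one' := by ext; simp
        map_mul' := fun y z => by ext; simp }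
    have hfp : MonoidHom.FixedPointFree φ := fun y hy => Subtype.ext (hwfix y y.2 (by
      have : w * (y : G) * w⁻¹ = y := congrArg Subtype.val hy
      exact (mul_inv_eq_iff_eq_mul.mp this).symm))
    have hinvol : Function.Involutive φ := fun y => Subtype.ext (by
      show w * (w * (y : G) * w⁻¹) * w⁻¹ = y
      rw [show w * (w * (y : G) * w⁻¹) * w⁻¹ = (w * w) * y * (w * w)⁻¹ by group, hw2]
      group)
    exact congrArg Subtype.val (congrFun (hfp.coe_eq_inv_of_involutive hinvol) ⟨o, ho⟩)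
  have hzM : z ∈ M := hHM hzH
  have hz2 := Involution.mul_self hz
  have hzR : ∀ r ∈ R, r * z = z * r := fun r hr => hzc r (hHS (hRH hr))
  -- every conjugate of `z` under `L` is `z` or `z * u`
  have horb : ∀ x ∈ L, x * z * x⁻¹ = z ∨ x * z * x⁻¹ = z * u := by
    intro x hx
    set z' := x * z * x⁻¹ with hz'
    have hxM : x ∈ M := hLM hx
    have hz'H : z' ∈ H := (mem_normalizer_iff.mp hx z).mp hzH
    have hz'M : z' ∈ M := hHM hz'H
    have hz'2 : z' * z' = 1 := by rw [hz', ← pow_two, conj_pow, pow_two, hz2]; group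
    have hzz' : Commute z' z := hzc z' (hHS hz'H)
    have hz'fix : ∀ o ∈ O, Commute o z' → o = 1 := fun o ho h => by
      have h1 := hfix _ (hOn x⁻¹ (inv_mem hxM) o ho) (by
        rw [inv_inv]
        calc x⁻¹ * o * x * z = x⁻¹ * (o * z') * x := by rw [hz']; group
          _ = x⁻¹ * (z' * o) * x := by rw [h.eq]
          _ = z * (x⁻¹ * o * x) := by rw [hz']; group)
      rw [inv_inv] at h1
      calc o = x * (x⁻¹ * o * x) * x⁻¹ := by group
        _ = 1 := by rw [h1]; group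
    have hz'R : ∀ r ∈ R, r * z' = z' * r := fun r hr => by
      have := hzR _ (conj_mem_core (inv_mem hxM) hr)
      rw [inv_inv] at this
      rw [hz']
      calc r * (x * z * x⁻¹) = x * ((x⁻¹ * r * x) * z) * x⁻¹ := by group
        _ = x * (z * (x⁻¹ * r * x)) * x⁻¹ := by rw [this]
        _ = x * z * x⁻¹ * r := by group
    have hw2 : (z * z') ^ 2 ^ 1 = 1 := by
      rw [pow_one, hzz'.symm.mul_pow, pow_two, pow_two, hz2, hz'2, one_mul]
    have hwR : ∀ r ∈ R, r * (z * z') = z * z' * r := fun r hr => by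
      rw [← mul_assoc, hzR r hr, mul_assoc z r, hz'R r hr, ← mul_assoc]
    have hwO : ∀ o ∈ O, o * (z * z') = z * z' * o := fun o ho => by
      have h1 := hinvert z hzM hz2 hfix o⁻¹ (inv_mem ho)
      have h2 := hinvert z' hz'M hz'2 hz'fix o ho
      rw [inv_inv] at h1
      rw [← h2] at h1
      calc o * (z * z') = z * (z' * o * z'⁻¹) * z⁻¹ * (z * z') := by rw [h1]
        _ = z * z' * o := by group
    have hmemR : z * z' ∈ R := by
      refine ⟨⟨z * z', mul_mem hzM hz'M⟩, mem_pCore_of_centralizes (k := 1) (hMU ▸ hcon U hU hU1)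
        (mem_centralizer_iff.mpr fun r hr => Subtype.ext (hwR r ⟨r, hr, rfl⟩))
        (mem_centralizer_iff.mpr fun r hr => Subtype.ext (hwO r ⟨r, hr, rfl⟩)) (Subtype.ext ?_), rfl⟩
      simpa using hw2
    rcases eq_or_ne (z * z') 1 with h1 | h1
    · left
      rw [mul_eq_one_iff_eq_inv, ← Involution.inv_eq hz] at h1
      rw [← inv_inj]
      rw [Involution.inv_eq hz] at h1 ⊢
      exact h1.symm
    · right
      have := eq_of_central_involutions (hcyc M hM) hmemR hwR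
        (Involution.orderOf_of_sq (by simpa [pow_two] using hw2) h1) huR huc huo
      rw [← this, ← mul_assoc, hz2, one_mul]
  -- the orbit has odd length
  intro x hx
  refine (horb x hx).resolve_right fun hxu => ?_
  set F := (centralizer ({z} : Set G)).subgroupOf L with hF
  have hF2 : F.index = 2 := by
    refine index_eq_two_iff.mpr ⟨⟨x, hx⟩, fun b => ?_⟩
    have hbu : Commute (b : G) u := hMC _ (hLM b.2)
    have hb := horb b b.2
    have hxu' : Commute x u := hMC _ (hLM hx)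
    have hx0 : x * z * x⁻¹ ≠ z := fun h => Involution.ne_one huo (mul_eq_left.mp (hxu.symm.trans h))
    have e1 : (b : G) * x * z * ((b : G) * x)⁻¹ = (b : G) * z * (b : G)⁻¹ * u := by
      calc (b : G) * x * z * ((b : G) * x)⁻¹ = (b : G) * (x * z * x⁻¹) * (b : G)⁻¹ := by group
        _ = (b : G) * z * (u * (b : G)⁻¹) := by rw [hxu]; group
        _ = (b : G) * z * (b : G)⁻¹ * u := by rw [hbu.inv_left.symm.eq]; group
    have hmem : ∀ g : G, g ∈ centralizer ({z} : Set G) ↔ g * z * g⁻¹ = z := fun g => by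
      rw [mem_centralizer_singleton_iff, mul_inv_eq_iff_eq_mul]
    simp only [hF, Subgroup.mem_subgroupOf, Subgroup.coe_mul, hmem, e1]
    rcases hb with h | h
    · rw [h]
      exact Or.inr ⟨rfl, fun e => Involution.ne_one huo (mul_eq_left.mp e)⟩
    · rw [h, mul_assoc, Involution.mul_self huo, mul_one]
      exact Or.inl ⟨rfl, fun e => Involution.ne_one huo (mul_eq_left.mp e)⟩
  apply hfn
  refine (dvd_of_eq hF2.symm).trans ?_
  refine relIndex_dvd_of_le_left L (?_ : (S : Subgroup G) ⊓ L ≤ centralizer ({z} : Set G))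
  exact fun s hs => mem_centralizer_singleton_iff.mpr (hzc s hs.1)

include hinv hcon hcyc in
theorem fixes_of_conj {z : G} (hz : orderOf z = 2) (hzS : z ∈ (S : Subgroup G))
    (hzc : ∀ s ∈ (S : Subgroup G), s * z = z * s) {g : G} (hg : g * z * g⁻¹ ∈ (S : Subgroup G)) :
    g * z * g⁻¹ = z := by
  haveI : Fact (Nat.Prime 2) := ⟨Nat.prime_two⟩
  obtain ⟨c, hc, y, hy, h, hh, he⟩ := StrongAlperin.reach_of_conj S ({z} : Set G) g⁻¹
    (Set.singleton_subset_iff.mpr hzS)
    (by rintro _ ⟨_, rfl, rfl⟩; rw [inv_inv]; exact hg)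
  have hks : ∀ (A : Set G) (k : G), StrongAlperin.KSteps 2 (S : Subgroup G) A k → A = {z} → k⁻¹ * z * k = z := by
    intro A k hk
    induction hk with
    | nil A => intro _; group
    | @cons A k H x hx hA _ ih =>
      intro hAz
      have hxf : x⁻¹ * z * x = z := by
        have := (link_fixes S hinv hcon hcyc hz hzS hzc hx.1).2 x⁻¹ (inv_mem hx.mem_normalizer)
        rwa [inv_inv] at this
      have := ih (by rw [hAz]; simp [StrongAlperin.cv, hxf])
      calc (x * k)⁻¹ * z * (x * k) = k⁻¹ * (x⁻¹ * z * x) * k := by group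
        _ = z := by rw [hxf, this]
  have hyz : y⁻¹ * z * y = z := by
    obtain ⟨M₀, hM₀, hzM₀⟩ := exists_maximal (isTwoLocal_zpowers hz)
    have hSM₀ : (S : Subgroup G) ≤ M₀ := fun s hs => hzM₀ (mem_normalizer_zpowers (hzc s hs))
    have hyS : y⁻¹ * z * y ∈ (S : Subgroup G) := (mem_normalizer_iff''.mp hy z).mp hzS
    have hyc : ∀ s ∈ (S : Subgroup G), s * (y⁻¹ * z * y) = y⁻¹ * z * y * s := fun s hs => by
      have := hzc _ ((mem_normalizer_iff.mp hy s).mp hs)
      calc s * (y⁻¹ * z * y) = y⁻¹ * ((y * s * y⁻¹) * z) * y := by group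
        _ = y⁻¹ * (z * (y * s * y⁻¹)) * y := by rw [this]
        _ = y⁻¹ * z * y * s := by group
    obtain ⟨h1, h2⟩ := mem_center_core S hinv hcon hM₀.1 hSM₀ hzS hzc
    obtain ⟨h3, h4⟩ := mem_center_core S hinv hcon hM₀.1 hSM₀ hyS hyc
    refine eq_of_central_involutions (hcyc M₀ hM₀) h3 h4 ?_ h1 h2 hz
    conv_lhs => rw [show y⁻¹ * z * y = y⁻¹ * z * y⁻¹⁻¹ by group]
    exact (Involution.orderOf_conj _ _).trans hz
  have hcz : c⁻¹ * z * c = z := by
    rw [mul_assoc, mem_centralizer_iff.mp hc z rfl, ← mul_assoc, inv_mul_cancel, one_mul]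
  calc g * z * g⁻¹ = (g⁻¹)⁻¹ * z * g⁻¹ := by group
    _ = y⁻¹ * (h⁻¹ * (c⁻¹ * z * c) * h) * y := by rw [he]; group
    _ = z := by rw [hcz, hks _ h hh rfl, hyz]

include hinv hcon in
theorem exists_noncyclic [IsSimpleGroup G] (hG : ¬ IsMulCommutative G) (hS : (S : Subgroup G) ≠ ⊥) :
    ∃ M : Subgroup G, Cfsg.IsMaximalTwoLocal M ∧ ¬ IsCyclic ↥(center ↥(Cfsg.pCore 2 ↥M)) := by
  haveI : Fact (Nat.Prime 2) := ⟨Nat.prime_two⟩
  by_contra hne
  push Not at hne
  haveI : Nontrivial ↥(S : Subgroup G) := (nontrivial_iff_ne_bot _).mpr hS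
  haveI := S.isPGroup'.center_nontrivial
  obtain ⟨z', hz'Z, -, hz'o⟩ := PGroup.exists_central_order_p S.isPGroup' (N := center ↥(S : Subgroup G))
    ((nontrivial_iff_ne_bot _).mp inferInstance)
  have hz : orderOf (z' : G) = 2 := by rw [Subgroup.orderOf_coe, hz'o]
  have hzc : ∀ s ∈ (S : Subgroup G), s * (z' : G) = (z' : G) * s := fun s hs =>
    congrArg Subtype.val (mem_center_iff.mp hz'Z ⟨s, hs⟩)
  have hiso : Cfsg.IsIsolatedInvolution (z' : G) :=
    ZStar.isolated_of_sylow S hz z'.2 fun g hg => fixes_of_conj S hinv hcon hne hz z'.2 hzc hg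
  have hO : Cfsg.pPrimeCore 2 G = ⊥ := by
    refine ((Cores.pPrimeCore_normal 2 G).eq_bot_or_eq_top).resolve_right fun h => ?_
    have hcop := Cores.coprime_card_pPrimeCore (G := G) 2
    rw [h, card_top] at hcop
    exact Nat.prime_two.ne_one (Nat.eq_one_of_dvd_coprimes hcop (hz ▸ orderOf_dvd_natCard (z' : G)) dvd_rfl)
  have hcen := ZStar.isolated_mem_center ZStar.uniqueInvolution hiso hO
  rcases (inferInstance : (center G).Normal).eq_bot_or_eq_top with h | h
  · exact Involution.ne_one hz (mem_bot.mp (h ▸ hcen))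
  · exact hG ⟨⟨fun a b => mem_center_iff.mp (h ▸ mem_top b) a⟩⟩

end Cfsg.Agent.EarlyChar
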